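import Groth.Agent.CurvLib.Divisor
import Groth.Agent.CurvLib.EulerTensor
import Groth.Agent.CohGenLib.Pro
import Groth.Agent.MiscFlat6.FreeStalks
import Groth.Agent.KFlatLib.PullTensor
import Groth.Agent.RpushLib.Comp
import Groth.Agent.RDerLib.LeftExact
import Groth.Agent.RpushLib.BCMap
import Groth.Agent.QCohLib.Push
import Groth.Agent.AffProjFormLib.Basic
import Groth.Agent.TildeDerLib.Push
import Groth.Agent.LeffPicLib.Tower
import Groth.Agent.HilbPolyLib.Twist
import Groth.Agent.S2297
import Groth.Agent.LocSuppLib.LocFree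
import Groth.Prelude.Def_Curve

/-!
# Direct images from a product with a curve, twisted by an effective divisor of the curve
-/

set_option autoImplicit false
set_option linter.all false
set_option backward.isDefEq.respectTransparency false
set_option backward.isDefEq.respectTransparency.types false
set_option maxHeartbeats 1000000

universe u

open CategoryTheory CategoryTheory.Limits AlgebraicGeometry TopologicalSpace Opposite
open Groth.Agent

noncomputable section

namespace FreeSecR1Lib

open KFlatLib (pb pf)

theorem epi_unitToPush {Y Z : Scheme.{u}} (j : Z ⟶ Y) [IsClosedImmersion j] : Epi (ClSub.unitToPush j) := by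
  refine Abelian.epi_of_cokernel_π_eq_zero _ ((DevissLib.isZero_of_support_empty
    (Set.eq_empty_of_forall_notMem fun x hx => DevissLib.notMem_support_cokernel _ x (fun a => ?_) hx)).eq_of_tgt _ _)
  obtain ⟨U, hxU, t, rfl⟩ := DevissLib.exists_gm_eq _ x a
  obtain ⟨V, hV, hxV, hVU⟩ := Opens.isBasis_iff_nbhd.mp Y.isBasis_affineOpens hxU
  obtain ⟨s, hs⟩ := CurvLib.unitToPush_app_surjective j hV
    (((Scheme.Modules.pushforward j).obj (Coh.structureModule Z)).presheaf.map (homOfLE hVU).op t)
  refine ⟨DevissLib.gm _ x hxV s, ?_⟩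
  rw [DevissLib.gm_app]
  exact (congrArg _ hs).trans (DevissLib.gm_map _ hVU x hxV t)


/-- Tensoring with a finite locally free module preserves short exactness. -/
theorem shortExact_tensor_finLocFree {X : Scheme.{u}} {E : X.Modules} (hE : FlatMod.IsFinLocFree E)
    {S : ShortComplex X.Modules} (hS : S.ShortExact) : (S.map (CurvLib.tensorLeft' E)).ShortExact := by
  refine CurvLib.shortExact_of_stalks _ fun x => ?_
  let R := X.presheaf.stalk x
  haveI : Module.Free R ((DevissLib.St x).obj E) := MiscFlat6.free_stalk_of_isFinLocFree hE x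
  haveI : Module.Flat R ((DevissLib.St x).obj E) := inferInstance
  have hx := hS.map_of_exact (DevissLib.St x)
  let T := (S.map (DevissLib.St x)).map (MonoidalCategory.tensorLeft ((DevissLib.St x).obj E))
  have hT : T.ShortExact :=
    { exact := Module.Flat.lTensor_shortComplex_exact ((DevissLib.St x).obj E) _ hx.exact
      mono_f := (ModuleCat.mono_iff_injective _).mpr
        (Module.Flat.lTensor_preserves_injective_linearMap _
          ((ModuleCat.mono_iff_injective _).mp hx.mono_f))
      epi_g := (ModuleCat.epi_iff_surjective _).mpr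
        (LinearMap.lTensor_surjective _ ((ModuleCat.epi_iff_surjective _).mp hx.epi_g)) }
  exact ShortComplex.shortExact_of_iso
    (ShortComplex.isoMk (KFlatLib.stalkTensorIso E S.X₁ x) (KFlatLib.stalkTensorIso E S.X₂ x)
      (KFlatLib.stalkTensorIso E S.X₃ x)
      (KFlatLib.stalkTensorIso_natural_right (M := E) x S.f).symm
      (KFlatLib.stalkTensorIso_natural_right (M := E) x S.g).symm :
      T ≅ (S.map (CurvLib.tensorLeft' E)).map (DevissLib.St x)) hT


variable {k : Type u} [Field k] {C T : Scheme.{u}} [C.Over (Spec (CommRingCat.of k))]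
  [T.Over (Spec (CommRingCat.of k))]

local notation "tT" => T ↘ (Spec (CommRingCat.of k))
local notation "cC" => C ↘ (Spec (CommRingCat.of k))
local notation "P" => pullback tT cC
local notation "prT" => pullback.fst tT cC
local notation "prC" => pullback.snd tT cC

instance flat_prC : Flat (pullback.snd (T ↘ (Spec (CommRingCat.of k))) (C ↘ (Spec (CommRingCat.of k)))) := by
  infer_instance

/-- Twisting a pulled back short exact sequence by a vector bundle. -/
theorem shortExact_twist {F : (pullback tT cC).Modules} (hF : FlatMod.IsFinLocFree F)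
    {S : ShortComplex C.Modules} (hS : S.ShortExact) :
    ((S.map (Scheme.Modules.pullback prC)).map (CurvLib.tensorLeft' F)).ShortExact := by
  haveI := CohGenLib.preservesFiniteLimits_pullback_flat prC
  haveI : PreservesFiniteColimits (Scheme.Modules.pullback prC) :=
    haveI : PreservesColimitsOfSize.{0, 0} (Scheme.Modules.pullback prC) := (Scheme.Modules.pullbackPushforwardAdjunction prC).leftAdjoint_preservesColimits
    inferInstance
  exact shortExact_tensor_finLocFree hF (hS.map_of_exact (Scheme.Modules.pullback prC))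

variable [IsProper (C ↘ (Spec (CommRingCat.of k)))]

/-- Higher direct images of modules supported on `T × D` vanish. -/
theorem isZero_rpush_supported [HasInjectiveResolutions (pullback tT cC).Modules]
    {F : (pullback tT cC).Modules} (hF : FlatMod.IsFinLocFree F)
    (D : C.IdealSheafData) [IsFinite (D.subschemeι ≫ cC)] (K : D.subscheme.Modules) [Coh.IsQCoh K] (n : ℕ) :
    IsZero ((Coh.Rpush prT (n + 1)).obj
      (CohB1.tensorMod F ((Scheme.Modules.pullback prC).obj ((Scheme.Modules.pushforward D.subschemeι).obj K)))) := by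
  let Z := pullback prC D.subschemeι
  let i : Z ⟶ pullback tT cC := pullback.fst prC D.subschemeι
  let g : Z ⟶ D.subscheme := pullback.snd prC D.subschemeι
  have H : IsPullback g i D.subschemeι prC := (IsPullback.of_hasPullback prC D.subschemeι).flip
  have H2 : IsPullback g (i ≫ prT) (D.subschemeι ≫ cC) tT := H.paste_vert (IsPullback.of_hasPullback tT cC).flip
  haveI : IsAffineHom (i ≫ prT) := MorphismProperty.of_isPullback H2 inferInstance
  haveI : HasInjectiveResolutions Z.Modules := by
    haveI : EnoughInjectives Z.Modules := IsGrothendieckAbelian.enoughInjectives.{u}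
    infer_instance
  haveI : Coh.IsQCoh F := (LocSuppLib.isCoh_of_isFinLocFree hF).1
  haveI := KFlatLib.isQCoh_pullback i F
  haveI := KFlatLib.isQCoh_pullback g K
  haveI : Coh.IsQCoh (CohB1.tensorMod (pb g K) (pb i F)) := (Groth.Agent.S2297.result (pb g K) (pb i F)).1
  let G := CohB1.tensorMod (pb g K) (pb i F)
  haveI : Coh.IsQCoh (pf D.subschemeι K) := QCohLib.isQCoh_pushforward D.subschemeι K
  let bc : pb prC (pf D.subschemeι K) ≅ pf i (pb g K) :=
    @asIso _ _ _ _ _ (RpushLib.isIso_bcMap_of H K fun US UT hUS hUT hg =>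
      RpushLib.bijective_bc_affine H K hUS hUT hg)
  let e : CohB1.tensorMod F (pb prC (pf D.subschemeι K)) ≅ pf i G :=
    (CurvLib.tensorLeft' F).mapIso bc ≪≫ HilbPolyLib.swapIso _ _ ≪≫
      asIso (ProjClosedImmLib.projR i (pb g K) F)
  obtain ⟨a⟩ := RpushLib.nonempty_rpush_push_iso i prT G (n + 1)
  exact (TildeDerLib.isZero_Rpush_affine (i ≫ prT) G (n + 1) n.succ_pos).of_iso
    ((Coh.Rpush prT (n + 1)).mapIso e ≪≫ a)

/-- The degree zero direct image detects epimorphisms. -/
theorem epi_rpush_zero_iff [HasInjectiveResolutions (pullback tT cC).Modules]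
    {A B : (pullback tT cC).Modules} (φ : A ⟶ B) :
    Epi ((Coh.Rpush prT 0).map φ) ↔ Epi ((Coh.push prT).map φ) := by
  haveI : PreservesFiniteLimits (Scheme.Modules.pushforward prT) :=
    haveI := (Scheme.Modules.pullbackPushforwardAdjunction prT).rightAdjoint_preservesLimits
    inferInstance
  exact (MorphismProperty.epimorphisms _).arrow_mk_iso_iff
    (Arrow.isoMk ((Functor.rightDerivedZeroIsoSelf (Scheme.Modules.pushforward prT)).app A)
      ((Functor.rightDerivedZeroIsoSelf (Scheme.Modules.pushforward prT)).app B)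
      ((Functor.rightDerivedZeroIsoSelf (Scheme.Modules.pushforward prT)).hom.naturality φ).symm)

/-- The restriction sequence of `D`, pulled back and twisted. -/
abbrev seq (F : (pullback tT cC).Modules) (D : C.IdealSheafData) : ShortComplex (pullback tT cC).Modules :=
  ((CurvLib.idealSeq D).map (Scheme.Modules.pullback prC)).map (CurvLib.tensorLeft' F)

theorem isFinite_divisor (hdim : topologicalKrullDim C = 1) {D : C.IdealSheafData}
    (hD : BlowUp.IsEffCartierIdeal D) : IsFinite (D.subschemeι ≫ cC) :=
  CurvLib.isFinite_subscheme k D (CurvLib.dim_support_effCartier hD hdim.le)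

/-- `D`-free means `0`-free and weakly `D`-free. -/
theorem isZero_twist_iff [HasInjectiveResolutions (pullback tT cC).Modules] (hdim : topologicalKrullDim C = 1)
    {F : (pullback tT cC).Modules} (hF : FlatMod.IsFinLocFree F)
    {D : C.IdealSheafData} (hD : BlowUp.IsEffCartierIdeal D) :
    IsZero ((Coh.Rpush prT 1).obj (seq F D).X₁) ↔
      (IsZero ((Coh.Rpush prT 1).obj F) ∧ Epi ((Coh.push prT).map (seq F D).g)) := by
  haveI := isFinite_divisor (k := k) hdim hD
  haveI : Coh.IsQCoh (Coh.structureModule D.subscheme) := QCohLib.isQCoh_unit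
  have hS := shortExact_twist (k := k) hF (CurvLib.idealSeq_shortExact D)
  have h3 : IsZero ((Coh.Rpush prT 1).obj (seq F D).X₃) :=
    isZero_rpush_supported hF D (Coh.structureModule D.subscheme) 0
  let u : (seq F D).X₂ ≅ F :=
    (CurvLib.tensorLeft' F).mapIso (KFlatLib.pullUnitIso prC) ≪≫ HilbPolyLib.swapIso _ _ ≪≫
      HilbPolyLib.unitLeft F
  constructor
  · intro h1
    exact ⟨(RDerLib.isZero_X₂ (F := Scheme.Modules.pushforward prT) hS 1 h1 h3).of_iso
        ((Coh.Rpush prT 1).mapIso u).symm,
      (epi_rpush_zero_iff _).1 (RDerLib.epi_map_g (F := Scheme.Modules.pushforward prT) hS 0 h1)⟩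
  · rintro ⟨hF1, he⟩
    exact RDerLib.isZero_X₁_succ (F := Scheme.Modules.pushforward prT) hS 0
      (hF1.of_iso ((Coh.Rpush prT 1).mapIso u)) ((epi_rpush_zero_iff _).2 he)

/-- Weakly `D`-free implies weakly `D'`-free for `D'` inside `D`. -/
theorem epi_of_le [HasInjectiveResolutions (pullback tT cC).Modules] (hdim : topologicalKrullDim C = 1)
    {F : (pullback tT cC).Modules} (hF : FlatMod.IsFinLocFree F)
    {D D' : C.IdealSheafData} (hD : BlowUp.IsEffCartierIdeal D) (hle : D ≤ D')
    (h : Epi ((Coh.push prT).map (seq F D).g)) : Epi ((Coh.push prT).map (seq F D').g) := by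
  haveI := isFinite_divisor (k := k) hdim hD
  let t := Scheme.IdealSheafData.inclusion hle
  have ht : t ≫ D.subschemeι = D'.subschemeι := Scheme.IdealSheafData.inclusion_subschemeι _
  haveI : IsClosedImmersion (t ≫ D.subschemeι) := ht ▸ inferInstance
  haveI : IsClosedImmersion t := IsClosedImmersion.of_comp t D.subschemeι
  haveI : Coh.IsQCoh (Coh.structureModule D.subscheme) := QCohLib.isQCoh_unit
  haveI : Coh.IsQCoh (Coh.structureModule D'.subscheme) := QCohLib.isQCoh_unit
  let Q := (Scheme.Modules.pushforward t).obj (Coh.structureModule D'.subscheme)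
  haveI : Coh.IsQCoh Q := QCohLib.isQCoh_pushforward t _
  haveI : Epi (ClSub.unitToPush t) := epi_unitToPush t
  haveI := QCohLib.isQCoh_kernel (ClSub.unitToPush t)
  let j := D.subschemeι
  let S₀ : ShortComplex D.subscheme.Modules := ShortComplex.mk _ _ (kernel.condition (ClSub.unitToPush t))
  have hS₀ : S₀.ShortExact :=
    { exact := ShortComplex.exact_of_f_is_kernel _ (kernelIsKernel _)
      mono_f := inferInstanceAs (Mono (kernel.ι _))
      epi_g := ‹Epi (ClSub.unitToPush t)› }
  haveI : PreservesFiniteLimits (Scheme.Modules.pushforward j) :=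
    haveI := (Scheme.Modules.pullbackPushforwardAdjunction j).rightAdjoint_preservesLimits
    inferInstance
  let a := ClSub.unitToPush t
  let g := (Scheme.Modules.pushforward j).map a
  let α : (Scheme.Modules.pushforward j).obj Q ≅ ClSub.quotMod D' :=
    (Scheme.Modules.pushforwardComp t j).app _ ≪≫
      (Scheme.Modules.pushforwardCongr ht).app (Coh.structureModule D'.subscheme)
  have key : ClSub.toSubscheme D ≫ g ≫ α.hom = ClSub.toSubscheme D' := by
    show _ = ClSub.unitToPush D'.subschemeι
    rw [LeffPicLib.unitToPush_congr ht, LeffPicLib.unitToPush_comp t j, Category.assoc, Category.assoc]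
    rfl
  haveI : Epi (ClSub.toSubscheme D') := CurvLib.epi_toSubscheme D'
  haveI : Epi (ClSub.toSubscheme D ≫ g ≫ α.hom) := key ▸ inferInstance
  haveI : Epi (g ≫ α.hom) := epi_of_epi (ClSub.toSubscheme D) _
  haveI : Epi g := by
    have : g = (g ≫ α.hom) ≫ α.inv := by simp
    rw [this]; infer_instance
  let S₁ := S₀.map (Scheme.Modules.pushforward j)
  have hS₁ : S₁.ShortExact :=
    { exact := (hS₀.exact.map_of_mono_of_preservesKernel (Scheme.Modules.pushforward j) inferInstance inferInstance)
      mono_f := inferInstanceAs (Mono ((Scheme.Modules.pushforward j).map (kernel.ι a)))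
      epi_g := ‹Epi g› }
  have hS := shortExact_twist (k := k) hF hS₁
  have h1 := isZero_rpush_supported hF D S₀.X₁ 0
  haveI := (epi_rpush_zero_iff (k := k) _).1 (RDerLib.epi_map_g (F := Scheme.Modules.pushforward prT) hS 0 h1)
  haveI := h
  let W := Scheme.Modules.pullback prC ⋙ CurvLib.tensorLeft' F ⋙ Coh.push prT
  have e : (Coh.push prT).map (seq F D').g = W.map (ClSub.toSubscheme D) ≫ W.map g ≫ W.map α.hom := by
    rw [← Functor.map_comp, ← Functor.map_comp, key]; rfl
  rw [e]
  haveI : Epi (W.map (ClSub.toSubscheme D)) := h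
  haveI : Epi (W.map g) := by assumption
  infer_instance

end FreeSecR1Lib
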